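import Cfsg.Agent.H0.PG2
set_option maxRecDepth 100000
set_option Elab.async false
namespace H0.MM12
open H0 BN 
noncomputable def n0 : Net := (Net.cons (nat_lit 64) (nat_lit 0x4000000000000000) (Net.cons (nat_lit 32) (nat_lit 0x4000000000000000fc2ec000) (Net.cons (nat_lit 16) (nat_lit 0x40000000e8010000a5c4) (Net.cons (nat_lit 8) (nat_lit 0x4000e600c000b90020) (Net.cons (nat_lit 4) (nat_lit 0x40404000f0b090204) (Net.cons (nat_lit 2) (nat_lit 0x12023221303101130) (Net.cons (nat_lit 1) (nat_lit 0x110411411450005) (Net.cons (nat_lit 2) (nat_lit 0x20220202000000) (Net.cons (nat_lit 4) (nat_lit 0x4000400000a000000) (Net.cons (nat_lit 8) (nat_lit 0x4000e600c000060028) (Net.cons (nat_lit 16) (nat_lit 0x40000000a8000000ad98) (Net.cons (nat_lit 32) (nat_lit 0x4000000000000000fc2ec000) (Net.cons (nat_lit 64) (nat_lit 0x4000000000000000) Net.nil)))))))))))))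
noncomputable def n1 : Net := (Net.cons (nat_lit 64) (nat_lit 0x2000000008000280) (Net.cons (nat_lit 32) (nat_lit 0x2000000000000000cf7e903a) (Net.cons (nat_lit 16) (nat_lit 0x280000009d2f00000583) (Net.cons (nat_lit 8) (nat_lit 0x200f400f200c700a3) (Net.cons (nat_lit 4) (nat_lit 0xa080405020e020a0f01) (Net.cons (nat_lit 2) (nat_lit 0x20022133100001102221) (Net.cons (nat_lit 1) (nat_lit 0x10114005400115450) (Net.cons (nat_lit 2) (nat_lit 0x20000200220000) (Net.cons (nat_lit 4) (nat_lit 0x8080000040800080204) (Net.cons (nat_lit 8) (nat_lit 0x200fc009000a000aa) (Net.cons (nat_lit 16) (nat_lit 0x2800000098f80000bc84) (Net.cons (nat_lit 32) (nat_lit 0x20000000000000004cb00842) (Net.cons (nat_lit 64) (nat_lit 0x2000000008000280) Net.nil)))))))))))))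
noncomputable def n2 : Net := (Net.cons (nat_lit 64) (nat_lit 0x2000000008000280) (Net.cons (nat_lit 32) (nat_lit 0x2000000000000000485078d2) (Net.cons (nat_lit 16) (nat_lit 0x28000000703300005a12) (Net.cons (nat_lit 8) (nat_lit 0x2005e00f800dc0034) (Net.cons (nat_lit 4) (nat_lit 0x208020e060d0a090b03) (Net.cons (nat_lit 2) (nat_lit 0x2003120103101010231) (Net.cons (nat_lit 1) (nat_lit 0x14444001441150104) (Net.cons (nat_lit 2) (nat_lit 0x20222002200000000) (Net.cons (nat_lit 4) (nat_lit 0x8000800000a0c0804) (Net.cons (nat_lit 8) (nat_lit 0x2001c00f6009c00c8) (Net.cons (nat_lit 16) (nat_lit 0x28000000e1200000a2c2) (Net.cons (nat_lit 32) (nat_lit 0x2000000000000000db641098) (Net.cons (nat_lit 64) (nat_lit 0x2000000008000280) Net.nil)))))))))))))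
noncomputable def n3 : Net := (Net.cons (nat_lit 64) (nat_lit 0x3000000000000000) (Net.cons (nat_lit 32) (nat_lit 0x3000000000000000852b5cc8) (Net.cons (nat_lit 16) (nat_lit 0x3000000090b800001024) (Net.cons (nat_lit 8) (nat_lit 0x3000c8002c001800d4) (Net.cons (nat_lit 4) (nat_lit 0x3040f040001000e08) (Net.cons (nat_lit 2) (nat_lit 0x2200202313002022) (Net.cons (nat_lit 1) (nat_lit 0x111455011041511544) (Net.cons (nat_lit 2) (nat_lit 0x2200002002002022) (Net.cons (nat_lit 4) (nat_lit 0x40000000c000e00) (Net.cons (nat_lit 8) (nat_lit 0x3000c8002c001800d4) (Net.cons (nat_lit 16) (nat_lit 0x3000000090b000001020) (Net.cons (nat_lit 32) (nat_lit 0x3000000000000000852b5cc8) (Net.cons (nat_lit 64) (nat_lit 0x3000000000000000) Net.nil)))))))))))))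
noncomputable def n4 : Net := (Net.cons (nat_lit 64) (nat_lit 0x147c800000000000) (Net.cons (nat_lit 32) (nat_lit 0x147c80000000000018ea8826) (Net.cons (nat_lit 16) (nat_lit 0x147c0000d53c00004706) (Net.cons (nat_lit 8) (nat_lit 0x6000c6005a00a500e2) (Net.cons (nat_lit 4) (nat_lit 0xf02040e0300010608) (Net.cons (nat_lit 2) (nat_lit 0x20103131020001032302) (Net.cons (nat_lit 1) (nat_lit 0x50501050054104140454) (Net.cons (nat_lit 2) (nat_lit 0x2000000200220202) (Net.cons (nat_lit 4) (nat_lit 0x40e08040e0004000a0a) (Net.cons (nat_lit 8) (nat_lit 0x640064005000200084) (Net.cons (nat_lit 16) (nat_lit 0x147c0000a5b400006d84) (Net.cons (nat_lit 32) (nat_lit 0x147c8000000000009868d2c0) (Net.cons (nat_lit 64) (nat_lit 0x147c800000000000) Net.nil)))))))))))))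
noncomputable def n5 : Net := (Net.cons (nat_lit 64) (nat_lit 0x147c800000000000) (Net.cons (nat_lit 32) (nat_lit 0x147c8000000000009868d3c0) (Net.cons (nat_lit 16) (nat_lit 0x147c0000802100006d84) (Net.cons (nat_lit 8) (nat_lit 0x640043007e00df0084) (Net.cons (nat_lit 4) (nat_lit 0x4010a0e0b030a040a0a) (Net.cons (nat_lit 2) (nat_lit 0x10021001313203032102) (Net.cons (nat_lit 1) (nat_lit 0x50054104141411010154) (Net.cons (nat_lit 2) (nat_lit 0x2200020002) (Net.cons (nat_lit 4) (nat_lit 0x20c0c0208000608) (Net.cons (nat_lit 8) (nat_lit 0x6000e00044005a00e2) (Net.cons (nat_lit 16) (nat_lit 0x147c0000100800004706) (Net.cons (nat_lit 32) (nat_lit 0x147c80000000000018ea8822) (Net.cons (nat_lit 64) (nat_lit 0x147c800000000000) Net.nil)))))))))))))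
noncomputable def n6 : Net := (Net.cons (nat_lit 64) (nat_lit 0xc000000000000000) (Net.cons (nat_lit 32) (nat_lit 0xc000000000000000c0000000) (Net.cons (nat_lit 16) (nat_lit 0xc0000000c0040000fc00) (Net.cons (nat_lit 8) (nat_lit 0xc0009800c000cc00bc) (Net.cons (nat_lit 4) (nat_lit 0xc0f080d0f0c00040c) (Net.cons (nat_lit 2) (nat_lit 0x32230230030330230) (Net.cons (nat_lit 1) (nat_lit 0x54455154400555150) (Net.cons (nat_lit 2) (nat_lit 0x2200200000000200) (Net.cons (nat_lit 4) (nat_lit 0xc000804000c00040c) (Net.cons (nat_lit 8) (nat_lit 0xc0009800c000cc00bc) (Net.cons (nat_lit 16) (nat_lit 0xc000000040000000fc00) (Net.cons (nat_lit 32) (nat_lit 0xc000000000000000c0000000) (Net.cons (nat_lit 64) (nat_lit 0xc000000000000000) Net.nil)))))))))))))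
noncomputable def n7 : Net := (Net.cons (nat_lit 64) (nat_lit 0xc000000000000000) (Net.cons (nat_lit 32) (nat_lit 0xc000000000000000c0000000) (Net.cons (nat_lit 16) (nat_lit 0xc0000000c0000000fc00) (Net.cons (nat_lit 8) (nat_lit 0xc0006a00c000cc0014) (Net.cons (nat_lit 4) (nat_lit 0xc05020c0f0c00080c) (Net.cons (nat_lit 2) (nat_lit 0x33333030030332110) (Net.cons (nat_lit 1) (nat_lit 0x4150001155000000) (Net.cons (nat_lit 4) (nat_lit 0xc0a020c000c000804) (Net.cons (nat_lit 8) (nat_lit 0xc0006a00c000cc0014) (Net.cons (nat_lit 16) (nat_lit 0xc0000000c0000000fc00) (Net.cons (nat_lit 32) (nat_lit 0xc000000000000000c0000000) (Net.cons (nat_lit 64) (nat_lit 0xc000000000000000) Net.nil))))))))))))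
noncomputable def n8 : Net := (Net.cons (nat_lit 64) (nat_lit 0xc000000000000000) (Net.cons (nat_lit 32) (nat_lit 0xc000000000000000fffffc00) (Net.cons (nat_lit 16) (nat_lit 0xc0000000fc0000000000) (Net.cons (nat_lit 8) (nat_lit 0xc000360046002e0028) (Net.cons (nat_lit 4) (nat_lit 0xc050306020303070c) (Net.cons (nat_lit 2) (nat_lit 0x30332300100001130) (Net.cons (nat_lit 1) (nat_lit 0x1141014000514104) (Net.cons (nat_lit 2) (nat_lit 0x2000000000002200) (Net.cons (nat_lit 4) (nat_lit 0xc0c0a06000000080c) (Net.cons (nat_lit 8) (nat_lit 0xc000c0004600220028) (Net.cons (nat_lit 16) (nat_lit 0xc0000000fc0000000000) (Net.cons (nat_lit 32) (nat_lit 0xc000000000000000fffffc00) (Net.cons (nat_lit 64) (nat_lit 0xc000000000000000) Net.nil)))))))))))))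
noncomputable def n9 : Net := (Net.cons (nat_lit 16) (nat_lit 0xc00000000000) (Net.cons (nat_lit 8) (nat_lit 0x810000000000c0) (Net.cons (nat_lit 4) (nat_lit 0xc090c0000000c00) (Net.cons (nat_lit 2) (nat_lit 0x223200000000200) (Net.cons (nat_lit 1) (nat_lit 0x15115155555555154) (Net.cons (nat_lit 2) (nat_lit 0x220200000000200) (Net.cons (nat_lit 4) (nat_lit 0xc000c0000000c00) (Net.cons (nat_lit 8) (nat_lit 0xc0) (Net.cons (nat_lit 16) (nat_lit 0xc00000000000) Net.nil)))))))))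
noncomputable def n10 : Net := (Net.cons (nat_lit 64) (nat_lit 0x61824c34350c9004) (Net.cons (nat_lit 32) (nat_lit 0x6186cc34000000008662491a) (Net.cons (nat_lit 16) (nat_lit 0x40000753e00007a91000041f1) (Net.cons (nat_lit 8) (nat_lit 0x8000100023006200d0002e003a) (Net.cons (nat_lit 4) (nat_lit 0x8000c0402060e00090a000806) (Net.cons (nat_lit 2) (nat_lit 0x3211022001100200011021) (Net.cons (nat_lit 1) (nat_lit 0x4004005011414010101411001) (Net.cons (nat_lit 2) (nat_lit 0x2000002222020002022000) (Net.cons (nat_lit 4) (nat_lit 0x8000e0002040800080a000a04) (Net.cons (nat_lit 8) (nat_lit 0x800000002200e000c800ae0058) (Net.cons (nat_lit 16) (nat_lit 0x213c000070ca00004510) (Net.cons (nat_lit 32) (nat_lit 0x4086cc300000000004526a10) (Net.cons (nat_lit 64) (nat_lit 0x61824c34350c9004) Net.nil)))))))))))))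
def B : List (List ℕ) := [[0, 0], [1, 2], [2, 1], [3, 3], [4, 5], [5, 4], [6, 6], [7, 7], [8, 8], [9, 9], [6, 7, 9], [6, 7, 6, 7], [6, 7, 6, 7], [6, 8, 6, 8, 6, 8, 6, 8, 6, 8, 6, 8, 6, 8, 6, 8], [6, 8, 6, 8, 6, 8, 6, 8, 6, 8, 6, 8, 6, 8, 6, 8], [7, 8, 7, 8, 7, 8, 7, 8], [7, 8, 7, 8, 7, 8, 7, 8], [8, 7, 8, 9, 8, 7, 8, 9], [8, 6, 8, 6, 8, 9, 8, 9], [4, 4, 4, 4, 4, 4, 4, 4, 4, 4], [4, 3, 5, 6], [4, 4, 3, 5, 5, 7], [5, 3, 4, 4, 4, 4, 4, 3, 4, 8], [3, 4, 3, 4, 3, 4, 3, 4, 3, 4, 3, 4, 3, 4, 3, 4], [3, 4, 3, 5, 3, 4, 3, 5], [3, 5, 3, 5, 3, 5, 3, 5, 3, 5, 3, 5, 3, 5, 3, 5], [3, 9, 3, 9], [3, 4, 6, 5, 3, 7], [4, 7, 5, 9, 8, 7, 8], [3, 4, 7, 5, 3, 8, 7, 8], [4, 8, 9, 8, 4, 8, 9, 8], [5, 3, 8, 5, 3, 7, 8, 6], [3, 5, 3, 8, 3, 6, 8, 9, 8], [1, 1, 1], [1, 0, 2, 0, 1, 0, 2, 3], [2, 0, 2, 0, 2, 0, 2, 0, 1, 0, 1, 5], [0, 1, 0, 1, 0, 1, 0, 1, 0, 1, 0, 1, 0, 1, 0, 1, 0, 1, 0, 1], [0, 1, 0, 2, 0, 1, 0, 2, 0, 1, 0, 2, 0, 1, 0, 2, 0,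 1, 0, 2, 0, 1, 0, 2], [0, 2, 0, 2, 0, 2, 0, 2, 0, 2, 0, 2, 0, 2, 0, 2, 0, 2, 0, 2], [0, 7, 0, 7], [0, 8, 0, 7, 8, 7], [0, 6, 0, 4, 9, 5], [0, 3, 0, 3, 0, 3], [1, 0, 2, 3, 0, 7, 3], [0, 5, 8, 1, 8, 4, 4, 3], [1, 4, 7, 2, 4, 3, 8, 4, 3], [2, 3, 8, 2, 8, 9, 5, 8], [1, 3, 9, 4, 1, 9, 3, 4], [2, 0, 2, 4, 2, 7, 3, 4], [2, 0, 9, 1, 4, 4, 9, 3, 8], [2, 6, 2, 5, 0, 3, 4, 7, 3], [0, 3, 2, 4, 0, 4, 8, 4, 4, 9], [1, 4, 1, 4, 1, 4, 8, 9, 5, 3], [0, 1, 3, 2, 0, 5, 9, 5, 8, 5], [0, 2, 3, 2, 4, 1, 3], [0, 1, 4, 2, 3, 2, 5, 5, 5], [0, 2, 8, 0, 2, 5, 5, 8, 7, 4]]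
def inv (x : ℕ) : ℕ := [0, 2, 1, 3, 5, 4, 6, 7, 8, 9].getD x 0
noncomputable def nl : List Net := [n0, n1, n2, n3, n4, n5, n6, n7, n8, n9, n10]
theorem nl_ok : allL (Net.ok (nat_lit 128)) nl = true := by decide +kernel
noncomputable def R : Rep := mkRep (nat_lit 7) (nat_lit 128) nl (by decide +kernel) nl_ok
def defs : List (List ℕ) := [[0, 2, 2, 0, 2, 0, 1]]
theorem R_ge : ∀ x, 10 + defs.length ≤ x → R.p x = 1 := fun _ hx => mkRep_ge hx
def ngSt : List (List (ℕ × List ℕ) × List ℕ × ℕ × ℕ) := [([(0, [])], [0], 5, 2), ([(1, [])], [3], 3, 2), ([(1, [])], [1], 10, 3), ([(3, [])], [2], 1, 3), ([(4, [])], [4], 11, 10), ([(5, [])], [5], 1, 10), ([(5, [])], [8], 5, 2), ([(3, [])], [9], 11, 2), ([(0, [3, 2])], [6], 3, 2), ([(0, []), (0, [])], [7], 5, 2)]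
def ngR : List (List ℕ) := ngRels inv ngSt [[10]]
def xR : List (List ℕ) := [wpow [10] 11]
theorem c0 : relsW R 0 R.lg ((B.drop 0).take 57) = true := by decide +kernel
theorem c1 : defsChk R defs 10 = true := by decide +kernel
theorem c2 : Model.fixW R [] [[0], [1]] = true := by decide +kernel
theorem c3 : Model.growW R [[0], [1]] [0, 1, 1, 0, 1, 0, 1, 0, 1, 0, 1, 0, 1, 0, 1, 1] (Nat.pow 2 0) (ival 0 66) = true := by decide +kernel
theorem c4 : Model.fixW R [0] [[3], [4]] = true := by decide +kernel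
theorem c5 : Model.growW R [[3], [4]] [0, 1, 1, 1, 1, 1, 1, 0, 1, 0, 1, 0, 1, 1] (Nat.pow 2 1) (ival 1 45) = true := by decide +kernel
theorem c6 : Model.fixW R [1, 0] [[6], [7], [8]] = true := by decide +kernel
theorem c7 : Model.growW R [[6], [7], [8]] [0, 2, 0, 1, 2] (Nat.pow 2 46) (ival 46 16) = true := by decide +kernel
theorem c8 : Model.fixW R [46, 1, 0] [[9]] = true := by decide +kernel
theorem c9 : Model.growW R [[9]] [0] (Nat.pow 2 2) (ival 2 2) = true := by decide +kernel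
theorem c10 : Model.growW R [[0], [1]] [0, 1, 1, 0, 1, 0, 1, 0, 1, 0, 1, 0, 1, 0, 1, 1] (Nat.pow 2 0) (ival 0 66) = true := by decide +kernel
theorem c11 : Model.invW R [[0], [1], [2], [3], [4], [5], [6], [7], [8], [9]] 0 66 = true := by decide +kernel
theorem c12 : Model.fixW R [0] [[3], [4]] = true := by decide +kernel
theorem c13 : Model.growW R [[3], [4]] [0, 1, 1, 1, 1, 1, 1, 0, 1, 0, 1, 0, 1, 1] (Nat.pow 2 1) (ival 1 45) = true := by decide +kernel
theorem c14 : mapsW R [0] (Nat.pow 2 0) (Nat.pow 2 1) = true := by decide +kernel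
theorem c15 : Model.growW R [[0], [3], [4]] [0, 1, 2, 2, 0, 1, 2, 2, 0, 2, 1, 0, 1] (Nat.pow 2 0) (ival 0 66) = true := by decide +kernel
theorem c16 : Model.growW R [[3], [4]] [0, 1, 0, 1, 1, 1, 0, 1] (Nat.pow 2 46) (ival 46 20) = true := by decide +kernel
theorem c17 : mapsW R [1, 0] (Nat.pow 2 0) (Nat.pow 2 46) = true := by decide +kernel
theorem c18 : Model.growW R [[1, 0], [3], [4]] [0, 0, 2, 0, 2, 0, 1, 2, 0, 1, 0] (Nat.pow 2 0) (ival 0 66) = true := by decide +kernel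
theorem c19 : relsW R 0 R.lg ((ngR.drop 0).take 20) = true := by decide +kernel
theorem c20 : relsW R 0 R.lg ((xR.drop 0).take 1) = true := by decide +kernel
end H0.MM12
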